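import Groth.Agent.TorUK.Poly
import Groth.Prelude.Def_BlowUp2

/-!
The affine blow-up algebra and the powers of an ideal.
-/

set_option autoImplicit false
set_option linter.style.haveILetI false
universe u

namespace Groth.Agent.TorUK

open MvPolynomial

variable {A : Type u} [CommRing A] [IsNoetherianRing A]

section BlowUp

variable {t : ℕ} (a : Fin (t + 1) → A)

local notation "L" => Localization.Away (a 0)
local notation "B" => BlowUp.affineAlgebra A (Ideal.span (Set.range a)) (a 0)

/-- The fraction `a k / a 0`. -/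
noncomputable def frac (k : Fin (t + 1)) : L :=
  IsLocalization.mk' L (a k) ⟨a 0, Submonoid.mem_powers (a 0)⟩

/-- The presentation of the blow-up algebra. -/
noncomputable def blowPres : MvPolynomial (Fin t ⊕ Empty) A →ₐ[A] L :=
  aeval (Sum.elim (fun k => frac a k.succ) Empty.elim)

theorem range_blowPres : (blowPres a).range = B := by
  refine le_antisymm ?_ (Algebra.adjoin_le ?_)
  · rw [blowPres, ← Algebra.adjoin_range_eq_range_aeval]
    refine Algebra.adjoin_mono ?_
    rintro _ ⟨k | k, rfl⟩
    · exact ⟨a k.succ, Ideal.subset_span ⟨_, rfl⟩, rfl⟩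
    · exact k.elim
  · rintro _ ⟨x, hx, rfl⟩
    show IsLocalization.mk' L x ⟨a 0, Submonoid.mem_powers (a 0)⟩ ∈ (blowPres a).range
    induction hx using Submodule.span_induction with
    | mem x hx =>
      obtain ⟨k, rfl⟩ := hx
      induction k using Fin.cases with
      | zero => rw [IsLocalization.mk'_self]; exact one_mem _
      | succ k => exact ⟨X (Sum.inl k), by simp [blowPres, frac]⟩
    | zero => rw [IsLocalization.mk'_zero]; exact zero_mem _
    | add x y _ _ hx hy =>
      rw [IsLocalization.mk'_eq_mul_mk'_one, map_add, add_mul, ← IsLocalization.mk'_eq_mul_mk'_one,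
        ← IsLocalization.mk'_eq_mul_mk'_one]
      exact add_mem hx hy
    | smul c x _ hx =>
      rw [smul_eq_mul, IsLocalization.mk'_eq_mul_mk'_one, map_mul, mul_assoc, ← IsLocalization.mk'_eq_mul_mk'_one]
      exact mul_mem (Subalgebra.algebraMap_mem _ c) hx

theorem uk_blowup : ∃ c, UK (a 0 ^ c) (t + 1) ↥B := by
  let π : MvPolynomial (Fin t ⊕ Empty) A →ₐ[A] B :=
    (blowPres a).codRestrict B fun p => range_blowPres a ▸ AlgHom.mem_range_self _ p
  have hπ : Function.Surjective π := fun b => by
    obtain ⟨p, hp⟩ := (range_blowPres a).ge b.2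
    exact ⟨p, Subtype.ext hp⟩
  have hspec : ∀ k : Fin (t + 1), algebraMap A L (a 0) * frac a k = algebraMap A L (a k) := fun k => by
    rw [mul_comm]
    exact IsLocalization.mk'_spec L (a k) ⟨a 0, Submonoid.mem_powers (a 0)⟩
  refine uk_of_eqns L (a 0) (fun k => C (a k.succ)) π hπ (fun j => Subtype.ext ?_) fun y hy => ?_
  · show blowPres a (C (a 0) * X (Sum.inl j) - rename Sum.inr (C (a j.succ))) = 0
    simp [blowPres, hspec]
  · have e : ((evZero L).toRingHom.comp ((toCoord L (a 0) (fun k => C (a k.succ))).toRingHom.comp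
        (MvPolynomial.map (algebraMap A L)))) =
        (C : L →+* MvPolynomial Empty L).comp (blowPres a).toRingHom := by
      refine MvPolynomial.ringHom_ext (fun r => ?_) fun i => ?_
      · simp [evZero, toCoord, blowPres]
      · rcases i with k | i
        · simp only [RingHom.comp_apply, AlgHom.toRingHom_eq_coe, RingHom.coe_coe, map_X, blowPres, aeval_X,
            Sum.elim_inl, toCoord, evZero, unitInv, map_mul, map_add, map_C, MvPolynomial.algHom_C,
            MvPolynomial.algebraMap_eq, rename_C]
          rw [zero_add, ← map_mul]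
          congr 1
          rw [mul_comm, ← hspec k.succ, mul_comm (algebraMap A L (a 0)), mul_assoc,
            IsLocalization.Away.mul_invSelf, mul_one]
        · exact i.elim
    have h1 : blowPres a y = 0 := congrArg Subtype.val hy
    exact (RingHom.congr_fun e y).trans (by simp [h1])

theorem exists_uk_blowup : ∃ c, ∀ x ∈ Ideal.span (Set.range a) ^ c, UK x (t + 1) ↥B := by
  obtain ⟨c, hc⟩ := uk_blowup a
  refine ⟨c, fun x hx => ?_⟩
  have hI : (Ideal.span (Set.range a)).map (algebraMap A ↥B) ≤ Ideal.span {algebraMap A ↥B (a 0)} := by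
    rw [Ideal.map_le_iff_le_comap, Ideal.span_le]
    rintro _ ⟨k, rfl⟩
    refine Ideal.mem_span_singleton.mpr ⟨⟨frac a k, Algebra.subset_adjoin ⟨a k, Ideal.subset_span ⟨k, rfl⟩, rfl⟩⟩, ?_⟩
    refine Subtype.ext ?_
    exact ((mul_comm _ _).trans (IsLocalization.mk'_spec L (a k) ⟨a 0, Submonoid.mem_powers (a 0)⟩)).symm
  have h2 : algebraMap A ↥B x ∈ Ideal.span {algebraMap A ↥B (a 0) ^ c} := by
    rw [← Ideal.span_singleton_pow]
    exact Ideal.pow_right_mono hI c (Ideal.map_pow (algebraMap A ↥B) _ c ▸ Ideal.mem_map_of_mem _ hx)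
  obtain ⟨β, hβ⟩ := Ideal.mem_span_singleton.mp h2
  refine uk_of_factor LinearMap.id (LinearMap.mulLeft A β) (fun n => ?_) hc
  rw [LinearMap.id_apply, LinearMap.mulLeft_apply, Algebra.smul_def, Algebra.smul_def, hβ, map_pow]
  ring

end BlowUp

section Powers

variable {t : ℕ} (a : Fin (t + 1) → A) (j : Fin (t + 1))

/-- The presentation of the Rees algebra with a distinguished variable. -/
noncomputable def reesPres : MvPolynomial (Fin t ⊕ Unit) A →ₐ[A] Polynomial A :=
  aeval (Sum.elim (fun k => Polynomial.monomial 1 (a (j.succAbove k))) (fun _ => Polynomial.monomial 1 (a j)))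

theorem range_reesPres : (reesPres a j).range = reesAlgebra (Ideal.span (Set.range a)) := by
  rw [← adjoin_monomial_eq_reesAlgebra, Submodule.map_span, Algebra.adjoin_span, reesPres,
    ← Algebra.adjoin_range_eq_range_aeval]
  congr 1
  rw [← Set.range_comp, Set.Sum.elim_range, Set.range_const]
  ext v
  constructor
  · rintro (⟨k, rfl⟩ | rfl) <;> exact ⟨_, rfl⟩
  · rintro ⟨k, rfl⟩
    rcases Fin.eq_self_or_eq_succAbove j k with rfl | ⟨l, rfl⟩
    · exact Or.inr rfl
    · exact Or.inl ⟨l, rfl⟩

theorem uk_rees : ∃ c, UK (a j ^ c) (t + 1) ↥(reesAlgebra (Ideal.span (Set.range a))) := by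
  let L := Localization.Away (a j)
  let π : MvPolynomial (Fin t ⊕ Unit) A →ₐ[A] reesAlgebra (Ideal.span (Set.range a)) :=
    (reesPres a j).codRestrict _ fun p => range_reesPres a j ▸ AlgHom.mem_range_self _ p
  have hπ : Function.Surjective π := fun b => by
    obtain ⟨p, hp⟩ := (range_reesPres a j).ge b.2
    exact ⟨p, Subtype.ext hp⟩
  refine uk_of_eqns L (a j) (fun k => C (a (j.succAbove k)) * X ()) π hπ (fun k => Subtype.ext ?_) fun y hy => ?_
  · show reesPres a j (C (a j) * X (Sum.inl k) - rename Sum.inr (C (a (j.succAbove k)) * X ())) = 0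
    simp [reesPres, Polynomial.C_mul_monomial, mul_comm]
  · let σ : MvPolynomial Unit L →+* Polynomial L :=
      eval₂Hom Polynomial.C fun _ => Polynomial.monomial 1 (algebraMap A L (a j))
    let σ' : Polynomial L →+* MvPolynomial Unit L :=
      Polynomial.eval₂RingHom C (C (IsLocalization.Away.invSelf (a j)) * X ())
    have hσ : σ'.comp σ = RingHom.id _ := by
      refine MvPolynomial.ringHom_ext (fun r => by simp [σ, σ']) fun i => ?_
      simp only [σ, σ', RingHom.comp_apply, eval₂Hom_X', RingHom.id_apply, Polynomial.coe_eval₂RingHom,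
        Polynomial.eval₂_monomial, pow_one, ← mul_assoc, ← map_mul, L, IsLocalization.Away.mul_invSelf, map_one,
        one_mul]
    have e : σ.comp ((evZero L).toRingHom.comp
        ((toCoord L (a j) (fun k => C (a (j.succAbove k)) * X ())).toRingHom.comp
          (MvPolynomial.map (algebraMap A L)))) =
        (Polynomial.mapRingHom (algebraMap A L)).comp (reesPres a j).toRingHom := by
      refine MvPolynomial.ringHom_ext (fun r => ?_) fun i => ?_
      · simp [σ, evZero, toCoord, reesPres, L, Polynomial.algebraMap_eq]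
      · rcases i with k | i
        · simp only [RingHom.comp_apply, AlgHom.toRingHom_eq_coe, RingHom.coe_coe, map_X, reesPres, aeval_X,
            Sum.elim_inl, Sum.elim_inr, toCoord, evZero, unitInv, map_mul, map_add, map_C, MvPolynomial.algHom_C,
            MvPolynomial.algebraMap_eq, rename_C, rename_X, σ, eval₂Hom_C, eval₂Hom_X', map_zero, zero_add, L,
            Polynomial.coe_mapRingHom, Polynomial.map_monomial]
          rw [← mul_assoc, ← map_mul, Polynomial.C_mul_monomial, mul_comm (IsLocalization.Away.invSelf (a j)),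
            mul_assoc, mul_comm (IsLocalization.Away.invSelf (a j)), IsLocalization.Away.mul_invSelf, mul_one]
        · simp [σ, evZero, toCoord, reesPres, L]
    have h1 : reesPres a j y = 0 := congrArg Subtype.val hy
    have h2 := congrArg σ' (RingHom.congr_fun e y)
    rw [RingHom.comp_apply, RingHom.comp_apply, ← RingHom.comp_apply σ' σ, hσ, RingHom.id_apply] at h2
    exact h2.trans (by simp [h1])

omit [IsNoetherianRing A] in
theorem uk_pow_of_rees {x : A} {i : ℕ} (I : Ideal A) (q : ℕ) (h : UK x i ↥(reesAlgebra I)) :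
    UK x i ↥(I ^ q : Ideal A) :=
  uk_of_factor
    (((Polynomial.monomial q).comp (I ^ q : Ideal A).subtype).codRestrict (reesAlgebra I).toSubmodule
      fun v => reesAlgebra.monomial_mem.mpr v.2)
    (((Polynomial.lcoeff A q).comp (reesAlgebra I).toSubmodule.subtype).codRestrict (I ^ q : Ideal A)
      fun v => v.2 q)
    (fun n => Subtype.ext (by simp)) h

end Powers

omit [IsNoetherianRing A] in
theorem exists_pow_le_span_pow {t : ℕ} (a : Fin t → A) (c : Fin t → ℕ) :
    ∃ n, Ideal.span (Set.range a) ^ n ≤ Ideal.span (Set.range fun k => a k ^ c k) := by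
  classical
  refine Ideal.exists_pow_le_of_le_radical_of_fg ?_ ⟨(Finset.univ : Finset (Fin t)).image a, ?_⟩
  · rw [Ideal.span_le]
    rintro _ ⟨k, rfl⟩
    exact ⟨c k, Ideal.subset_span ⟨k, rfl⟩⟩
  · simp

theorem exists_uk_quotient_pow {t : ℕ} (a : Fin t → A) :
    ∃ c, ∀ q, ∀ x ∈ Ideal.span (Set.range a) ^ c, UK x (t + 1) (A ⧸ Ideal.span (Set.range a) ^ q) := by
  set I := Ideal.span (Set.range a) with hI
  have key : ∀ (q : ℕ) (x b : A), UK b 1 A → UK x t ↥(I ^ q : Ideal A) → 1 ≤ t → UK (b * x) (t + 1) (A ⧸ I ^ q) :=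
    fun q x b hb hx ht => uk_coker ht (I ^ q : Ideal A).subtype (Submodule.mkQ (I ^ q))
      (Submodule.injective_subtype _) (LinearMap.exact_subtype_mkQ _) (Submodule.mkQ_surjective _)
      (uk_mono hb (by omega)) hx
  rcases t with _ | t
  · refine ⟨0, fun q x _ => ?_⟩
    have h0 : I = ⊥ := by rw [hI, Set.range_eq_empty, Ideal.span_empty]
    rw [← mem_ukIdeal]
    have h1 : (1 : A) ∈ ukIdeal (A ⧸ I ^ q) (0 + 1) := by
      rcases q with _ | q
      · refine uk_of_smul_eq_zero _ fun v => ?_
        obtain ⟨v, rfl⟩ := Ideal.Quotient.mk_surjective v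
        rw [one_smul, Ideal.Quotient.eq_zero_iff_mem, pow_zero, Ideal.one_eq_top]
        trivial
      · have := uk_quot_of_killed (b := (1 : A)) (I ^ (q + 1) : Ideal A).subtype (Submodule.mkQ (I ^ (q + 1)))
          (LinearMap.exact_subtype_mkQ _) (Submodule.mkQ_surjective _) (uk_flat (A := A) (N := A) (0 + 1))
          fun v => by
            have hv : (v : A) = 0 := by
              obtain ⟨w, hw⟩ := v
              rw [h0, ← Ideal.zero_eq_bot, zero_pow (Nat.succ_ne_zero q)] at hw
              exact hw
            rw [one_smul]; exact Subtype.ext hv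
        rwa [mul_one] at this
    simpa using (ukIdeal (A ⧸ I ^ q) (0 + 1)).mul_mem_left x h1
  · choose c hc using fun j => uk_rees a j
    obtain ⟨n, hn⟩ := exists_pow_le_span_pow a c
    refine ⟨n, fun q x hx => ?_⟩
    have h1 : x ∈ ukIdeal ↥(I ^ q : Ideal A) (t + 1) := by
      refine Ideal.span_le.mpr ?_ (hn hx)
      rintro _ ⟨j, rfl⟩
      exact uk_pow_of_rees I q (hc j)
    simpa using key q x 1 (uk_flat 1) h1 (Nat.le_add_left 1 t)

end Groth.Agent.TorUK
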