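import Mathlib
import Groth.Agent.TorBalance.Basic

/-!
Scalars annihilating `Tor_p(-, N)` for all modules in the first slot, uniformly: devissage.
-/

set_option autoImplicit false
set_option linter.style.haveILetI false
universe u

open CategoryTheory Limits MonoidalCategory
open scoped TensorProduct

namespace Groth.Agent.TorUK

/-- A complex of flat modules, exact in positive degrees. -/
structure FRes (A : Type u) [CommRing A] where
  X : ℕ → Type u
  [grp : ∀ n, AddCommGroup (X n)]
  [mod : ∀ n, Module A (X n)]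
  [flat : ∀ n, Module.Flat A (X n)]
  d : ∀ n, X (n + 1) →ₗ[A] X n
  dd : ∀ n, d n ∘ₗ d (n + 1) = 0
  exact : ∀ n, Function.Exact (d (n + 1)) (d n)

attribute [instance] FRes.grp FRes.mod FRes.flat

variable {A : Type u} [CommRing A]

/-- `a` annihilates the homology of `R ⊗ N` in all degrees `≥ i` (and `≥ 1`), for every `R`. -/
def UK (a : A) (i : ℕ) (N : Type u) [AddCommGroup N] [Module A N] : Prop :=
  ∀ (R : FRes.{u} A) (p : ℕ), i ≤ p + 1 → ∀ z : R.X (p + 1) ⊗[A] N, LinearMap.rTensor N (R.d p) z = 0 →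
    ∃ w, LinearMap.rTensor N (R.d (p + 1)) w = a • z

variable {N' N N'' : Type u} [AddCommGroup N'] [Module A N'] [AddCommGroup N] [Module A N]
  [AddCommGroup N''] [Module A N'']

theorem uk_mono {a : A} {i j : ℕ} (h : UK a i N) (hij : i ≤ j) : UK a j N :=
  fun R p hp => h R p (hij.trans hp)

theorem uk_flat [Module.Flat A N] (i : ℕ) : UK (1 : A) i N := fun R p _ z hz => by
  rw [one_smul]
  exact (Module.Flat.rTensor_exact N (R.exact p) z).mp hz

theorem uk_of_smul_eq_zero {a : A} (i : ℕ) (h : ∀ n : N, a • n = 0) : UK a i N := fun R p _ z _ => by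
  refine ⟨0, ?_⟩
  rw [map_zero]
  clear * - h
  induction z using TensorProduct.induction_on with
  | zero => simp
  | tmul x n => rw [← TensorProduct.tmul_smul, h, TensorProduct.tmul_zero]
  | add x y hx hy => rw [smul_add, ← hx, ← hy, add_zero]

theorem comm_rT_lT {X Y : Type u} [AddCommGroup X] [Module A X] [AddCommGroup Y] [Module A Y] (d : X →ₗ[A] Y)
    (g : N →ₗ[A] N'') (z : X ⊗[A] N) :
    LinearMap.rTensor N'' d (LinearMap.lTensor X g z) = LinearMap.lTensor Y g (LinearMap.rTensor N d z) := by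
  rw [← LinearMap.comp_apply, ← LinearMap.comp_apply, LinearMap.rTensor_comp_lTensor,
    LinearMap.lTensor_comp_rTensor]

theorem smul_eq_zero_tensor {b : A} (h : ∀ n : N, b • n = 0) {X : Type u} [AddCommGroup X] [Module A X]
    (z : X ⊗[A] N) : b • z = 0 := by
  induction z using TensorProduct.induction_on with
  | zero => simp
  | tmul x n => rw [← TensorProduct.tmul_smul, h, TensorProduct.tmul_zero]
  | add x y hx hy => rw [smul_add, hx, hy, add_zero]

/-- A quotient of `N` by a submodule killed by `b`. -/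
theorem uk_quot_of_killed {a b : A} {i : ℕ} (f : N' →ₗ[A] N) (g : N →ₗ[A] N'')
    (hfg : Function.Exact f g) (hg : Function.Surjective g) (hN : UK a i N) (hb : ∀ n : N', b • n = 0) :
    UK (a * b) i N'' := fun R p hp z hz => by
  obtain ⟨y, rfl⟩ := LinearMap.lTensor_surjective (R.X (p + 1)) hg z
  rw [comm_rT_lT] at hz
  obtain ⟨v, hv⟩ := (lTensor_exact (R.X p) hfg hg _).1 hz
  have h0 : LinearMap.rTensor N (R.d p) (b • y) = 0 := by
    rw [map_smul, ← hv, ← map_smul, smul_eq_zero_tensor hb, map_zero]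
  obtain ⟨w, hw⟩ := hN R p hp _ h0
  exact ⟨LinearMap.lTensor _ g w, by rw [comm_rT_lT, hw, smul_smul, map_smul]⟩

/-- The cokernel of an injective map. -/
theorem uk_coker {a b : A} {i : ℕ} (hi : 1 ≤ i) (f : N' →ₗ[A] N) (g : N →ₗ[A] N'') (hf : Function.Injective f)
    (hfg : Function.Exact f g) (hg : Function.Surjective g) (hN : UK a (i + 1) N) (hb : UK b i N') :
    UK (a * b) (i + 1) N'' := fun R p hp z hz => by
  obtain ⟨q, rfl⟩ : ∃ q, p = q + 1 := ⟨p - 1, by omega⟩
  obtain ⟨y, rfl⟩ := LinearMap.lTensor_surjective (R.X (q + 1 + 1)) hg z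
  rw [comm_rT_lT] at hz
  obtain ⟨v, hv⟩ := (lTensor_exact (R.X (q + 1)) hfg hg _).1 hz
  have hv0 : LinearMap.rTensor N' (R.d q) v = 0 := by
    apply Module.Flat.lTensor_preserves_injective_linearMap (M := R.X q) f hf
    rw [map_zero, ← comm_rT_lT, hv, ← LinearMap.comp_apply, ← LinearMap.rTensor_comp, R.dd q,
      LinearMap.rTensor_zero, LinearMap.zero_apply]
  obtain ⟨w, hw⟩ := hb R q (by omega) v hv0
  have h0 : LinearMap.rTensor N (R.d (q + 1)) (b • y - LinearMap.lTensor _ f w) = 0 := by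
    rw [map_sub, map_smul, comm_rT_lT, hw, map_smul, hv, sub_self]
  obtain ⟨x, hx⟩ := hN R (q + 1) hp _ h0
  refine ⟨LinearMap.lTensor _ g x, ?_⟩
  rw [comm_rT_lT, hx, map_smul, map_sub, map_smul,
    show LinearMap.lTensor (R.X (q + 1 + 1)) g (LinearMap.lTensor _ f w) = 0 from
      (lTensor_exact (R.X (q + 1 + 1)) hfg hg _).2 ⟨w, rfl⟩, sub_zero, smul_smul]

/-- The scalar `x` acting as a composite through `a`. -/
theorem uk_factor {a x : A} {i : ℕ} (ι : N' →ₗ[A] N) (π : N →ₗ[A] N'') (φ : N' →ₗ[A] N'')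
    (h : ∀ n, π (a • ι n) = x • φ n) (hN : UK a i N) (R : FRes.{u} A) (p : ℕ) (hp : i ≤ p + 1)
    (z : R.X (p + 1) ⊗[A] N') (hz : LinearMap.rTensor N' (R.d p) z = 0) :
    ∃ w, LinearMap.rTensor N'' (R.d (p + 1)) w = x • LinearMap.lTensor _ φ z := by
  have h0 : LinearMap.rTensor N (R.d p) (LinearMap.lTensor _ ι z) = 0 := by rw [comm_rT_lT, hz, map_zero]
  obtain ⟨w, hw⟩ := hN R p hp _ h0
  refine ⟨LinearMap.lTensor _ π w, ?_⟩
  rw [comm_rT_lT, hw]
  have e : π ∘ₗ (a • ι) = x • φ := LinearMap.ext h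
  rw [← LinearMap.smul_apply, ← LinearMap.lTensor_smul, ← LinearMap.comp_apply, ← LinearMap.lTensor_comp, e,
    LinearMap.lTensor_smul, LinearMap.smul_apply]

theorem uk_of_factor {a x : A} {i : ℕ} (ι : N' →ₗ[A] N) (π : N →ₗ[A] N') (h : ∀ n, π (a • ι n) = x • n)
    (hN : UK a i N) : UK x i N' := fun R p hp z hz => by
  obtain ⟨w, hw⟩ := uk_factor ι π LinearMap.id h hN R p hp z hz
  exact ⟨w, by simpa using hw⟩

variable (N) in
/-- The annihilating scalars form an ideal. -/
def ukIdeal (i : ℕ) : Ideal A where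
  carrier := {a | UK a i N}
  zero_mem' R p _ z _ := ⟨0, by simp⟩
  add_mem' {a b} ha hb R p hp z hz := by
    obtain ⟨w, hw⟩ := ha R p hp z hz
    obtain ⟨w', hw'⟩ := hb R p hp z hz
    exact ⟨w + w', by rw [map_add, hw, hw', add_smul]⟩
  smul_mem' c a ha R p hp z hz := by
    obtain ⟨w, hw⟩ := ha R p hp z hz
    exact ⟨c • w, by rw [map_smul, hw, smul_eq_mul, mul_smul]⟩

theorem mem_ukIdeal {a : A} {i : ℕ} : a ∈ ukIdeal N i ↔ UK a i N := Iff.rfl

/-- The flat complex of a projective resolution. -/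
noncomputable def fres {M : ModuleCat.{u} A} (P : ProjectiveResolution M) : FRes.{u} A where
  X n := P.complex.X n
  flat n :=
    haveI : Module.Projective A (P.complex.X n) := (IsProjective.iff_projective _).2 (P.projective n)
    inferInstance
  d n := (P.complex.d (n + 1) n).hom
  dd n := congrArg ModuleCat.Hom.hom (P.complex.d_comp_d (n + 2) (n + 1) n)
  exact n := (ShortComplex.ShortExact.moduleCat_exact_iff_function_exact _).mp (P.exact_succ n)

theorem homology_smul_eq_zero (C : ChainComplex (ModuleCat.{u} A) ℕ) (p : ℕ) (a : A)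
    (h : ∀ z : C.X (p + 1), (C.d (p + 1) p).hom z = 0 → ∃ w, (C.d (p + 2) (p + 1)).hom w = a • z)
    (y : C.homology (p + 1)) : a • y = 0 := by
  let e := (C.homologyIsoSc' (p + 2) (p + 1) p (by simp) (by simp) ≪≫
    (C.sc' (p + 2) (p + 1) p).moduleCatHomologyIso).toLinearEquiv
  apply e.injective
  rw [map_smul, map_zero]
  obtain ⟨⟨z, hz⟩, hzy⟩ := Submodule.mkQ_surjective _ (e y)
  rw [← hzy]
  obtain ⟨w, hw⟩ := h z hz
  refine (map_smul (C.sc' (p + 2) (p + 1) p).moduleCatToCycles.range.mkQ a _).symm.trans ?_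
  exact (Submodule.Quotient.mk_eq_zero _).mpr ⟨w, Subtype.ext hw⟩

/-- Reading `UK` on `Tor`. -/
theorem tor_smul_eq_zero {a : A} {i : ℕ} (hN : UK a i N) (M : Type u) [AddCommGroup M] [Module A M] (p : ℕ)
    (hp : i ≤ p + 1) (y : DRing.Tor A (p + 1) M N) : a • y = 0 := by
  let P := projectiveResolution (ModuleCat.of A M)
  let e := ((TorBalance.balanceIso P (p + 1)).app (ModuleCat.of A N)).toLinearEquiv
  apply e.injective
  rw [map_smul, map_zero]
  exact homology_smul_eq_zero _ p a (fun z hz => hN (fres P) p hp z hz) (e y)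

/-- Reading `UK` on `Tor` with `N` in the first slot. -/
theorem tor_smul_eq_zero' {a : A} {i : ℕ} (hN : UK a i N) (M : Type u) [AddCommGroup M] [Module A M] (p : ℕ)
    (hp : i ≤ p + 1) (y : DRing.Tor A (p + 1) N M) : a • y = 0 := by
  let Q := projectiveResolution (ModuleCat.of A M)
  let e := (Q.isoLeftDerivedObj (tensorLeft (ModuleCat.of A N)) (p + 1)).toLinearEquiv
  apply e.injective
  refine (map_smul e a y).trans (Eq.trans ?_ (map_zero e).symm)
  refine homology_smul_eq_zero _ p a (fun z hz => ?_) (e y)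
  have key : ∀ (n : ℕ) (v : N ⊗[A] Q.complex.X (n + 1)),
      TensorProduct.comm A N _ (LinearMap.lTensor N (Q.complex.d (n + 1) n).hom v) =
        LinearMap.rTensor N (Q.complex.d (n + 1) n).hom (TensorProduct.comm A N _ v) := fun n v => by
    induction v using TensorProduct.induction_on with
    | zero => simp
    | tmul x y => rfl
    | add x y hx hy => simp only [map_add, hx, hy]
  obtain ⟨w, hw⟩ := hN (fres Q) p hp (TensorProduct.comm A N _ z) (by
    refine (key p z).symm.trans ?_
    exact (congrArg _ hz).trans (map_zero _))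
  refine ⟨(TensorProduct.comm A N _).symm w, (TensorProduct.comm A N _).injective ?_⟩
  refine (key (p + 1) _).trans ?_
  refine Eq.trans ?_ (hw.trans (map_smul (TensorProduct.comm A N _) a z).symm)
  exact congrArg _ (LinearEquiv.apply_symm_apply _ w)

end Groth.Agent.TorUK
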