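import Groth.Agent.TorUK.Basic

/-!
A quotient of a flat algebra by a sequence which becomes regular after inverting `a`.
-/

set_option autoImplicit false
set_option linter.style.haveILetI false
universe u

namespace Groth.Agent.TorUK

variable {A : Type u} [CommRing A] {P : Type u} [CommRing P] [Algebra A P]

theorem exists_pow_smul_mem [IsNoetherianRing P] (a : A) (J K : Ideal P) (h : ∀ y ∈ J, ∃ e, a ^ e • y ∈ K) :
    ∃ e, ∀ y ∈ J, a ^ e • y ∈ K := by
  let r : P := algebraMap A P a
  have hr : ∀ (e : ℕ) (y : P), a ^ e • y = r ^ e * y := fun e y => by rw [Algebra.smul_def, map_pow]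
  obtain ⟨s, hs⟩ := IsNoetherian.noetherian J
  have h' : ∀ x : (s : Set P), ∃ e, a ^ e • (x : P) ∈ K := fun x => h x (hs ▸ Submodule.subset_span x.2)
  choose e he using h'
  refine ⟨Finset.univ.sup e, fun y hy => ?_⟩
  rw [hr]
  have : J ≤ Submodule.comap (LinearMap.mulLeft P (r ^ Finset.univ.sup e)) K := by
    rw [← hs, Submodule.span_le]
    intro x hx
    have h1 := he ⟨x, hx⟩
    rw [hr] at h1
    show r ^ Finset.univ.sup e * x ∈ K
    obtain ⟨d, hd⟩ := Nat.le.dest (Finset.le_sup (f := e) (Finset.mem_univ ⟨x, hx⟩))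
    rw [← hd, pow_add, mul_right_comm]
    exact K.mul_mem_right _ h1
  exact this hy

/-- The ideal of the first `m` members. -/
def preI (f : ℕ → P) (m : ℕ) : Ideal P := Ideal.span (f '' Set.Iio m)

theorem preI_succ (f : ℕ → P) (m : ℕ) : preI f (m + 1) = preI f m ⊔ Ideal.span {f m} := by
  rw [preI, preI, ← Ideal.span_union, ← Set.image_singleton, ← Set.image_union, Set.Iio_add_one_eq_Iic,
    ← Set.Iio_insert, Set.union_singleton]

theorem uk_preI [IsNoetherianRing P] [Module.Flat A P] (a : A) (f : ℕ → P) (k : ℕ)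
    (hcolon : ∀ m < k, ∀ y, f m * y ∈ preI f m → ∃ e, a ^ e • y ∈ preI f m) :
    ∃ c, UK (a ^ c) (k + 1) (P ⧸ preI f k) := by
  induction k with
  | zero =>
    refine ⟨0, ?_⟩
    rw [pow_zero]
    have h0 : preI f 0 = ⊥ := by simp [preI]
    let e : (P ⧸ preI f 0) ≃ₗ[A] P :=
      ((Ideal.quotientEquivAlgOfEq A h0).trans (AlgEquiv.quotientBot A P)).toLinearEquiv
    haveI : Module.Flat A (P ⧸ preI f 0) := Module.Flat.of_linearEquiv e
    exact uk_flat 1
  | succ k ih =>
    obtain ⟨c, hc⟩ := ih fun m hm => hcolon m (by omega)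
    let J := preI f k
    let J' := preI f (k + 1)
    have hle : J ≤ J' := by
      show preI f k ≤ preI f (k + 1)
      rw [preI_succ]
      exact le_sup_left
    let μ : (P ⧸ J) →ₗ[A] (P ⧸ J) := LinearMap.mulLeft A (Ideal.Quotient.mk J (f k))
    obtain ⟨e, he⟩ := exists_pow_smul_mem a (Submodule.comap (LinearMap.mulLeft P (f k)) J) J
      fun y hy => hcolon k (by omega) y hy
    have hker : ∀ v : LinearMap.ker μ, a ^ e • v = 0 := by
      rintro ⟨v, hv⟩
      obtain ⟨y, rfl⟩ := Ideal.Quotient.mk_surjective v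
      have hy : f k * y ∈ J := by
        rw [← Ideal.Quotient.eq_zero_iff_mem, map_mul]
        exact hv
      refine Subtype.ext ?_
      show a ^ e • Ideal.Quotient.mk J y = 0
      rw [← Ideal.Quotient.mkₐ_eq_mk A, ← map_smul, Ideal.Quotient.mkₐ_eq_mk, Ideal.Quotient.eq_zero_iff_mem]
      exact he y hy
    have him : UK (a ^ c * a ^ e) (k + 1) (LinearMap.range μ) :=
      uk_quot_of_killed (LinearMap.ker μ).subtype μ.rangeRestrict
        (LinearMap.exact_iff.mpr (by rw [LinearMap.ker_rangeRestrict, Submodule.range_subtype]))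
        μ.surjective_rangeRestrict hc hker
    let π : (P ⧸ J) →ₗ[A] (P ⧸ J') := (Ideal.Quotient.factorₐ A hle).toLinearMap
    refine ⟨c + (c + e), ?_⟩
    rw [pow_add, pow_add]
    refine uk_coker (Nat.le_add_left 1 k) (LinearMap.range μ).subtype π (Submodule.injective_subtype _) ?_ ?_
      (uk_mono hc (Nat.le_succ _)) him
    · rw [LinearMap.exact_iff, Submodule.range_subtype]
      refine le_antisymm (fun v hv => ?_) ?_
      · obtain ⟨y, rfl⟩ := Ideal.Quotient.mk_surjective v
        have hy : y ∈ J' := Ideal.Quotient.eq_zero_iff_mem.mp hv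
        rw [show J' = J ⊔ Ideal.span {f k} from preI_succ f k, Submodule.mem_sup] at hy
        obtain ⟨j, hj, w, hw, rfl⟩ := hy
        obtain ⟨b, rfl⟩ := Ideal.mem_span_singleton.mp hw
        refine ⟨Ideal.Quotient.mk J b, ?_⟩
        show Ideal.Quotient.mk J (f k) * Ideal.Quotient.mk J b = _
        rw [map_add, Ideal.Quotient.eq_zero_iff_mem.mpr hj, zero_add, map_mul]
      · rintro _ ⟨v, rfl⟩
        obtain ⟨y, rfl⟩ := Ideal.Quotient.mk_surjective v
        show Ideal.Quotient.factor hle (Ideal.Quotient.mk J (f k) * Ideal.Quotient.mk J y) = 0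
        rw [← map_mul, Ideal.Quotient.factor_mk, Ideal.Quotient.eq_zero_iff_mem]
        exact Ideal.mul_mem_right _ _ (Ideal.subset_span ⟨k, Nat.lt_succ_self k, rfl⟩)
    · exact Ideal.Quotient.factor_surjective hle

/-- A quotient of `P` which agrees with the first `k` members up to `a`-power torsion. -/
theorem uk_quot [IsNoetherianRing P] [Module.Flat A P] (a : A) (f : ℕ → P) (k : ℕ)
    (hcolon : ∀ m < k, ∀ y, f m * y ∈ preI f m → ∃ e, a ^ e • y ∈ preI f m)
    {Q : Type u} [CommRing Q] [Algebra A Q] (π : P →ₐ[A] Q) (hπ : Function.Surjective π)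
    (hf : ∀ m < k, π (f m) = 0) (hker : ∀ y, π y = 0 → ∃ e, a ^ e • y ∈ preI f k) :
    ∃ c, UK (a ^ c) (k + 1) Q := by
  obtain ⟨c, hc⟩ := uk_preI a f k hcolon
  have hle : ∀ y ∈ preI f k, π y = 0 := fun y hy => by
    have : preI f k ≤ RingHom.ker π.toRingHom := Ideal.span_le.mpr (by rintro _ ⟨m, hm, rfl⟩; exact hf m hm)
    exact this hy
  let g : (P ⧸ preI f k) →ₐ[A] Q := Ideal.Quotient.liftₐ _ π hle
  obtain ⟨e, he⟩ := exists_pow_smul_mem a (RingHom.ker π.toRingHom) (preI f k) hker
  have hk : ∀ v : LinearMap.ker g.toLinearMap, a ^ e • v = 0 := by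
    rintro ⟨v, hv⟩
    obtain ⟨y, rfl⟩ := Ideal.Quotient.mk_surjective v
    refine Subtype.ext ?_
    show a ^ e • Ideal.Quotient.mk (preI f k) y = 0
    rw [← Ideal.Quotient.mkₐ_eq_mk A, ← map_smul, Ideal.Quotient.mkₐ_eq_mk, Ideal.Quotient.eq_zero_iff_mem]
    exact he y hv
  have hg : Function.Surjective g.toLinearMap := fun q => by
    obtain ⟨y, rfl⟩ := hπ q
    exact ⟨Ideal.Quotient.mk _ y, rfl⟩
  refine ⟨c + e, ?_⟩
  rw [pow_add]
  exact uk_quot_of_killed (LinearMap.ker g.toLinearMap).subtype g.toLinearMap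
    (LinearMap.exact_iff.mpr (Submodule.range_subtype _).symm) hg hc hk

end Groth.Agent.TorUK
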