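import Groth.Agent.TorUK.Key

/-!
The equations `a X_k - g_k` become coordinates after inverting `a`.
-/

set_option autoImplicit false
set_option linter.style.haveILetI false
universe u

namespace Groth.Agent.TorUK

open MvPolynomial

variable {A : Type u} [CommRing A] (L : Type u) [CommRing L] [Algebra A L] (a : A) [IsLocalization.Away a L] {m : ℕ} {τ : Type}
  (g : Fin m → MvPolynomial τ A)


/-- `a X_k - g_k` -/
noncomputable def eqn (j : ℕ) : MvPolynomial (Fin m ⊕ τ) A :=
  if h : j < m then C a * X (Sum.inl ⟨j, h⟩) - rename Sum.inr (g ⟨j, h⟩) else 0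

noncomputable def unitInv : MvPolynomial (Fin m ⊕ τ) L := C (IsLocalization.Away.invSelf (S := L) a)

/-- `X_k ↦ (X_k + g_k) / a` -/
noncomputable def toCoord : MvPolynomial (Fin m ⊕ τ) L →ₐ[L] MvPolynomial (Fin m ⊕ τ) L :=
  aeval (Sum.elim (fun k => unitInv L a * (X (Sum.inl k) + rename Sum.inr (MvPolynomial.map (algebraMap A L) (g k))))
    (fun i => X (Sum.inr i)))

/-- `X_k ↦ a X_k - g_k` -/
noncomputable def ofCoord : MvPolynomial (Fin m ⊕ τ) L →ₐ[L] MvPolynomial (Fin m ⊕ τ) L :=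
  aeval (Sum.elim (fun k => C (algebraMap A L a) * X (Sum.inl k) -
      rename Sum.inr (MvPolynomial.map (algebraMap A L) (g k)))
    (fun i => X (Sum.inr i)))

theorem C_mul_unitInv : C (algebraMap A L a) * unitInv L (τ := τ) (m := m) a = 1 := by
  rw [unitInv, ← map_mul, IsLocalization.Away.mul_invSelf, map_one]

theorem ofCoord_toCoord (p : MvPolynomial (Fin m ⊕ τ) L) : ofCoord L a g (toCoord L a g p) = p := by
  have h : (ofCoord L a g).comp (toCoord L a g) = AlgHom.id L _ := by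
    refine MvPolynomial.algHom_ext fun i => ?_
    rcases i with k | i
    · have hr : ofCoord L a g (rename Sum.inr (MvPolynomial.map (algebraMap A L) (g k))) =
          rename Sum.inr (MvPolynomial.map (algebraMap A L) (g k)) := by
        rw [ofCoord, aeval_rename]
        exact AlgHom.congr_fun (MvPolynomial.algHom_ext fun i => by simp) _
      simp only [AlgHom.comp_apply, toCoord, aeval_X, Sum.elim_inl, map_mul, map_add, hr, AlgHom.id_apply]
      rw [unitInv, MvPolynomial.algHom_C]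
      simp only [ofCoord, aeval_X, Sum.elim_inl, MvPolynomial.algebraMap_eq, sub_add_cancel]
      rw [← unitInv, ← mul_assoc, mul_comm (unitInv L a), C_mul_unitInv, one_mul]
    · simp [toCoord, ofCoord]
  exact AlgHom.congr_fun h p

theorem toCoord_eqn (j : Fin m) :
    toCoord L a g (MvPolynomial.map (algebraMap A L) (eqn a g j)) = X (Sum.inl j) := by
  have hr : toCoord L a g (rename Sum.inr (MvPolynomial.map (algebraMap A L) (g j))) =
      rename Sum.inr (MvPolynomial.map (algebraMap A L) (g j)) := by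
    rw [toCoord, aeval_rename]
    exact AlgHom.congr_fun (MvPolynomial.algHom_ext fun i => by simp) _
  rw [eqn, dif_pos j.2, map_sub, map_sub, map_mul, map_C, map_X, map_rename, map_mul, hr, MvPolynomial.algHom_C]
  rw [toCoord, aeval_X, Sum.elim_inl, MvPolynomial.algebraMap_eq, ← mul_assoc, C_mul_unitInv, one_mul,
    add_sub_cancel_right]

theorem ofCoord_X (j : Fin m) :
    ofCoord L a g (X (Sum.inl j)) = MvPolynomial.map (algebraMap A L) (eqn a g j) := by
  rw [← toCoord_eqn L a g j, ofCoord_toCoord]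

/-- The variables `< j`. -/
def coordSet (j : ℕ) : Set (Fin m ⊕ τ) := Sum.inl '' {k : Fin m | (k : ℕ) < j}

variable (τ m) in
/-- The ideal of the first `j` coordinates. -/
noncomputable abbrev coordI (j : ℕ) : Ideal (MvPolynomial (Fin m ⊕ τ) L) :=
  Ideal.span (X '' coordSet (τ := τ) (m := m) j)

theorem toCoord_mem {j : ℕ} {y : MvPolynomial (Fin m ⊕ τ) A} (hy : y ∈ preI (eqn a g) j) (hj : j ≤ m) :
    toCoord L a g (MvPolynomial.map (algebraMap A L) y) ∈ coordI L m τ j := by
  have : preI (eqn a g) j ≤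
      Ideal.comap ((toCoord L a g).toRingHom.comp (MvPolynomial.map (algebraMap A L)))
        (coordI L m τ j) := by
    refine Ideal.span_le.mpr ?_
    rintro _ ⟨k, hk, rfl⟩
    have hkm : k < m := lt_of_lt_of_le hk hj
    rw [SetLike.mem_coe, Ideal.mem_comap, RingHom.comp_apply, AlgHom.toRingHom_eq_coe, RingHom.coe_coe, show eqn a g k = eqn a g ((⟨k, hkm⟩ : Fin m) : ℕ) from rfl, toCoord_eqn]
    exact Ideal.subset_span ⟨_, ⟨⟨k, hkm⟩, hk, rfl⟩, rfl⟩
  exact this hy

theorem exists_pow_smul_mem_preI {j : ℕ} {y : MvPolynomial (Fin m ⊕ τ) A}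
    (hy : toCoord L a g (MvPolynomial.map (algebraMap A L) y) ∈ coordI L m τ j) :
    ∃ e, a ^ e • y ∈ preI (eqn a g) j := by
  have hsub : ∀ v ∈ coordI L m τ j,
      ofCoord L a g v ∈ (preI (eqn a g) j).map (MvPolynomial.map (algebraMap A L)) := by
    intro v hv
    refine Submodule.span_induction (fun x hx => ?_) ?_ (fun x z _ _ h₁ h₂ => ?_) (fun c x _ h₁ => ?_) hv
    · obtain ⟨_, ⟨k, hk, rfl⟩, rfl⟩ := hx
      rw [ofCoord_X]
      exact Ideal.mem_map_of_mem _ (Ideal.subset_span ⟨k, hk, rfl⟩)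
    · rw [map_zero]; exact zero_mem _
    · rw [map_add]; exact add_mem h₁ h₂
    · rw [smul_eq_mul, map_mul]; exact Ideal.mul_mem_left _ _ h₁
  have h1 : MvPolynomial.map (algebraMap A L) y ∈ (preI (eqn a g) j).map (MvPolynomial.map (algebraMap A L)) := by
    have h0 := hsub _ hy
    rwa [ofCoord_toCoord] at h0
  letI : Algebra (MvPolynomial (Fin m ⊕ τ) A) (MvPolynomial (Fin m ⊕ τ) L) := MvPolynomial.algebraMvPolynomial
  obtain ⟨s, hs, hsy⟩ := (IsLocalization.algebraMap_mem_map_algebraMap_iff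
    ((Submonoid.powers a).map (C : A →+* MvPolynomial (Fin m ⊕ τ) A))
    (MvPolynomial (Fin m ⊕ τ) L) (preI (eqn a g) j) y).mp (by rw [MvPolynomial.algebraMap_def]; exact h1)
  obtain ⟨w, hw, hws⟩ := Submonoid.mem_map.mp hs
  obtain ⟨e, he⟩ := (Submonoid.mem_powers_iff _ _).mp hw
  refine ⟨e, ?_⟩
  rw [MvPolynomial.smul_eq_C_mul, he]
  rw [← hws] at hsy
  exact hsy

theorem mem_of_X_mul_mem {R : Type u} [CommRing R] {σ : Type} {s : Set σ} {i : σ} (hi : i ∉ s)
    {p : MvPolynomial σ R} (h : X i * p ∈ Ideal.span (X '' s)) : p ∈ Ideal.span (X '' s) := by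
  classical
  rw [mem_ideal_span_X_image] at h ⊢
  intro d hd
  obtain ⟨l, hl, hne⟩ := h (Finsupp.single i 1 + d) (by
    rw [support_X_mul]
    exact Finset.mem_map.mpr ⟨d, hd, rfl⟩)
  refine ⟨l, hl, ?_⟩
  rwa [Finsupp.add_apply, Finsupp.single_eq_of_ne (by rintro rfl; exact hi hl), zero_add] at hne

theorem colon (j : ℕ) (hj : j < m) (y : MvPolynomial (Fin m ⊕ τ) A) (hy : eqn a g j * y ∈ preI (eqn a g) j) :
    ∃ e, a ^ e • y ∈ preI (eqn a g) j := by
  refine exists_pow_smul_mem_preI (Localization.Away a) a g (mem_of_X_mul_mem (i := Sum.inl ⟨j, hj⟩) ?_ ?_)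
  · rintro ⟨k, hk, hk'⟩
    cases Sum.inl.inj hk'
    exact lt_irrefl j hk
  · have := toCoord_mem (Localization.Away a) a g hy hj.le
    rwa [map_mul, map_mul, show eqn a g j = eqn a g ((⟨j, hj⟩ : Fin m) : ℕ) from rfl, toCoord_eqn] at this

/-- Setting the coordinates to zero. -/
noncomputable def evZero : MvPolynomial (Fin m ⊕ τ) L →ₐ[L] MvPolynomial τ L :=
  aeval (Sum.elim (fun _ => 0) X)

theorem mem_span_of_evZero {p : MvPolynomial (Fin m ⊕ τ) L} (h : evZero L p = 0) :
    p ∈ coordI L m τ m := by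
  have e : (Ideal.Quotient.mkₐ L (coordI L m τ m)).comp
      ((rename Sum.inr).comp (evZero L (m := m))) = Ideal.Quotient.mkₐ L _ := by
    refine MvPolynomial.algHom_ext fun i => ?_
    rcases i with k | i
    · simp only [AlgHom.comp_apply, evZero, aeval_X, Sum.elim_inl, map_zero, Ideal.Quotient.mkₐ_eq_mk]
      have hk : (X (Sum.inl k) : MvPolynomial (Fin m ⊕ τ) L) ∈ coordI L m τ m :=
        Ideal.subset_span ⟨_, ⟨k, k.2, rfl⟩, rfl⟩
      exact (Ideal.Quotient.eq_zero_iff_mem.mpr hk).symm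
    · simp [evZero]
  rw [← Ideal.Quotient.eq_zero_iff_mem, ← Ideal.Quotient.mkₐ_eq_mk L, ← e, AlgHom.comp_apply, AlgHom.comp_apply,
    h, map_zero, map_zero]

theorem uk_of_eqns [IsNoetherianRing A] [Finite τ] {Q : Type u} [CommRing Q] [Algebra A Q]
    (π : MvPolynomial (Fin m ⊕ τ) A →ₐ[A] Q) (hπ : Function.Surjective π)
    (hf : ∀ j : Fin m, π (C a * X (Sum.inl j) - rename Sum.inr (g j)) = 0)
    (hker : ∀ y, π y = 0 → evZero L (toCoord L a g (MvPolynomial.map (algebraMap A L) y)) = 0) :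
    ∃ c, UK (a ^ c) (m + 1) Q :=
  uk_quot a (eqn a g) m (colon a g) π hπ (fun j hj => by rw [eqn, dif_pos hj]; exact hf ⟨j, hj⟩)
    fun y hy => exists_pow_smul_mem_preI L a g (mem_span_of_evZero L (hker y hy))

end Groth.Agent.TorUK
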